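import Groth.Agent.Lib.Twist.Gen
import Groth.Agent.Lib.ModM1.LocFree
import Mathlib.AlgebraicGeometry.FunctionField
import Mathlib.LinearAlgebra.FreeModule.PID

/-!
# Bases of modules over opens
-/

set_option autoImplicit false
set_option linter.style.haveILetI false
universe u

open CategoryTheory CategoryTheory.Limits AlgebraicGeometry Opposite TopologicalSpace

namespace Groth.Agent.P1Split

open Groth.Agent.M1

variable {X Y : Scheme.{u}} {r : ℕ}

/-- `e` is a basis of `M` over all opens in `U`. -/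
def IsBas (M : X.Modules) (U : X.Opens) (e : Fin r → Γ(M, U)) : Prop :=
  ∀ (V : X.Opens) (h : V ≤ U), Function.Bijective fun c : Fin r → Γ(X, V) => ∑ i, c i • mres M h (e i)

theorem IsBas.mres {M : X.Modules} {U V : X.Opens} {e : Fin r → Γ(M, U)} (he : IsBas M U e) (h : V ≤ U) :
    IsBas M V (fun i => mres M h (e i)) := fun W hW => by
  simp only [mres_mres]
  exact he W _

theorem germ_sum_smul (M : X.Modules) {U : X.Opens} {x : X} (hx : x ∈ U) (c : Fin r → Γ(X, U))
    (m : Fin r → Γ(M, U)) :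
    M.presheaf.germ U x hx (∑ i, c i • m i) =
      ∑ i, X.presheaf.germ U x hx (c i) • (M.presheaf.germ U x hx (m i) : M.presheaf.stalk x) := by
  rw [map_sum]
  simp only [germ_smul]

theorem mres_sum_smul (M : X.Modules) {U V : X.Opens} (h : V ≤ U) (c : Fin r → Γ(X, U)) (m : Fin r → Γ(M, U)) :
    M1.mres M h (∑ i, c i • m i) = ∑ i, ores h (c i) • M1.mres M h (m i) := by
  rw [map_sum]
  simp only [mres_smul]

theorem exists_common_section {x : X} {W : X.Opens} (hx : x ∈ W) (c : Fin r → X.presheaf.stalk x) :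
    ∃ (D : X.Opens) (hxD : x ∈ D) (a : Fin r → Γ(X, D)), D ≤ W ∧ ∀ i, X.presheaf.germ D x hxD (a i) = c i := by
  choose V hV a ha using fun i => X.presheaf.exists_germ_eq (c i)
  let D : X.Opens := ⟨(⋂ i, (V i : Set X)) ∩ W, (isOpen_iInter_of_finite fun i => (V i).2).inter W.2⟩
  have hxD : x ∈ D := ⟨Set.mem_iInter.2 hV, hx⟩
  refine ⟨D, hxD, fun i => ores (show D ≤ V i from fun y hy => Set.mem_iInter.1 hy.1 i) (a i), fun y hy => hy.2, fun i => ?_⟩
  exact (X.presheaf.germ_res_apply _ x hxD (a i)).trans (ha i)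

theorem IsBas.stalk {M : X.Modules} {U : X.Opens} {e : Fin r → Γ(M, U)} (he : IsBas M U e) {x : X} (hx : x ∈ U) :
    Function.Bijective fun c : Fin r → X.presheaf.stalk x =>
      ∑ i, c i • (M.presheaf.germ U x hx (e i) : M.presheaf.stalk x) := by
  constructor
  · intro c c' h
    obtain ⟨D, hxD, a, hDU, ha⟩ := exists_common_section hx c
    obtain ⟨D', hxD', a', hD', ha'⟩ := exists_common_section (show x ∈ D from hxD) c'
    have h1 : M.presheaf.germ D' x hxD' (∑ i, ores hD' (a i) • M1.mres M (hD'.trans hDU) (e i)) =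
        M.presheaf.germ D' x hxD' (∑ i, a' i • M1.mres M (hD'.trans hDU) (e i)) := by
      rw [germ_sum_smul, germ_sum_smul]
      simp only [germ_mres, ha']
      refine Eq.trans (Finset.sum_congr rfl fun i _ => ?_) h
      exact congrArg (· • (M.presheaf.germ U x hx (e i) : M.presheaf.stalk x))
        ((X.presheaf.germ_res_apply (homOfLE hD') x hxD' (a i)).trans (ha i))
    obtain ⟨Z, hZ, i₁, i₂, hz⟩ := M.presheaf.germ_eq x hxD' hxD' _ _ h1
    replace hz : M1.mres M i₁.le (∑ i, ores hD' (a i) • M1.mres M (hD'.trans hDU) (e i)) =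
        M1.mres M i₁.le (∑ i, a' i • M1.mres M (hD'.trans hDU) (e i)) := hz
    simp only [mres_sum_smul, mres_mres] at hz
    funext i
    have h2 := congrArg (X.presheaf.germ Z x hZ) (congrFun ((he Z _).1 hz) i)
    rw [← ha i, ← ha' i, ← X.presheaf.germ_res_apply (homOfLE hD') x hxD' (a i),
      ← X.presheaf.germ_res_apply i₁ x hZ, ← X.presheaf.germ_res_apply i₁ x hZ (a' i)]
    exact h2
  · intro v
    obtain ⟨W, hW, m, rfl⟩ := M.presheaf.exists_germ_eq v
    have hV : x ∈ W ⊓ U := ⟨hW, hx⟩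
    obtain ⟨c, hc⟩ := (he (W ⊓ U) inf_le_right).2 (M1.mres M (inf_le_left : W ⊓ U ≤ W) m)
    refine ⟨fun i => X.presheaf.germ (W ⊓ U) x hV (c i), ?_⟩
    have hc' := congrArg (M.presheaf.germ (W ⊓ U) x hV) hc
    simp only [germ_sum_smul, germ_mres] at hc'
    exact hc'

theorem isBas_of_stalk {M : X.Modules} {U : X.Opens} {e : Fin r → Γ(M, U)}
    (h : ∀ (x : X) (hx : x ∈ U), Function.Bijective fun c : Fin r → X.presheaf.stalk x =>
      ∑ i, c i • (M.presheaf.germ U x hx (e i) : M.presheaf.stalk x)) : IsBas M U e := by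
  intro V hV
  have hinj : ∀ (Z : X.Opens) (hZ : Z ≤ U) (a b : Fin r → Γ(X, Z)),
      ∑ i, a i • M1.mres M hZ (e i) = ∑ i, b i • M1.mres M hZ (e i) → a = b := fun Z hZ a b he => by
    funext i
    refine TopCat.Presheaf.section_ext X.sheaf Z (a i) (b i) fun x hx => ?_
    have he' := congrArg (M.presheaf.germ Z x hx) he
    simp only [germ_sum_smul, germ_mres] at he'
    exact congrFun ((h x (hZ hx)).1 he') i
  refine ⟨hinj V hV, fun m => ?_⟩
  have hloc : ∀ x : V, ∃ (W : X.Opens) (hWV : W ≤ V) (a : Fin r → Γ(X, W)), x.1 ∈ W ∧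
      ∑ i, a i • M1.mres M (hWV.trans hV) (e i) = M1.mres M hWV m := fun x => by
    obtain ⟨c, hc⟩ := (h x.1 (hV x.2)).2 (M.presheaf.germ V x.1 x.2 m)
    obtain ⟨D, hxD, a, hDV, ha⟩ := exists_common_section (show x.1 ∈ V from x.2) c
    have he : M.presheaf.germ D x.1 hxD (∑ i, a i • M1.mres M (hDV.trans hV) (e i)) =
        M.presheaf.germ D x.1 hxD (M1.mres M hDV m) := by
      simp only [germ_sum_smul, germ_mres, ha]
      exact hc
    obtain ⟨Z, hZ, i₁, i₂, hz⟩ := M.presheaf.germ_eq x.1 hxD hxD _ _ he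
    replace hz : M1.mres M i₁.le (∑ i, a i • M1.mres M (hDV.trans hV) (e i)) =
        M1.mres M i₁.le (M1.mres M hDV m) := hz
    simp only [mres_sum_smul, mres_mres] at hz
    exact ⟨Z, i₁.le.trans hDV, fun i => ores i₁.le (a i), hZ, hz⟩
  choose W hW a hx ha using hloc
  have hcov : V ≤ ⨆ x, W x := fun x hxV => Opens.mem_iSup.2 ⟨⟨x, hxV⟩, hx _⟩
  have hglue : ∀ i, ∃ R : Γ(X, V), ∀ x, ores (hW x) R = a x i := by
    intro i
    obtain ⟨R, hR, -⟩ := X.sheaf.existsUnique_gluing' W V (fun x => homOfLE (hW x)) hcov (fun x => a x i)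
      fun x y => by
        show ores (inf_le_left : W x ⊓ W y ≤ W x) (a x i) = ores (inf_le_right : W x ⊓ W y ≤ W y) (a y i)
        refine congrFun (hinj _ (inf_le_left.trans ((hW x).trans hV))
          (fun i => ores inf_le_left (a x i)) (fun i => ores inf_le_right (a y i)) ?_) i
        have ex := congrArg (M1.mres M (inf_le_left : W x ⊓ W y ≤ W x)) (ha x)
        have ey := congrArg (M1.mres M (inf_le_right : W x ⊓ W y ≤ W y)) (ha y)
        simp only [mres_sum_smul, mres_mres] at ex ey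
        exact ex.trans ey.symm
    exact ⟨R, hR⟩
  choose R hR using hglue
  refine ⟨R, modules_eq_of_locally_eq M V W hW hcov _ _ fun x => ?_⟩
  show M1.mres M (hW x) (∑ i, R i • M1.mres M hV (e i)) = M1.mres M (hW x) m
  simp only [mres_sum_smul, mres_mres, hR]
  exact ha x

theorem isBas_of_isGen {M : X.Modules} {U : X.Opens} {g : Γ(M, U)} (hg : Twist.IsGen M U g) :
    IsBas (r := 1) M U (fun _ => g) := fun V hV => by
  have : (fun c : Fin 1 → Γ(X, V) => ∑ i, c i • M1.mres M hV g) =
      (fun a : Γ(X, V) => a • M1.mres M hV g) ∘ fun c => c 0 := by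
    funext c
    simp
  rw [this]
  exact (hg V hV).comp (Equiv.funUnique (Fin 1) _).bijective

theorem app_sum_smul {M N : X.Modules} (φ : M ⟶ N) {U : X.Opens} (c : Fin r → Γ(X, U)) (m : Fin r → Γ(M, U)) :
    φ.app U (∑ i, c i • m i) = ∑ i, c i • φ.app U (m i) := by
  rw [map_sum]
  simp only [Scheme.Modules.Hom.app_smul]

theorem IsBas.map_iso {M N : X.Modules} (φ : M ≅ N) {U : X.Opens} {e : Fin r → Γ(M, U)} (he : IsBas M U e) :
    IsBas N U (fun i => φ.hom.app U (e i)) := fun V hV => by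
  have hb : Function.Bijective (φ.hom.app V) := (ConcreteCategory.isIso_iff_bijective _).1 inferInstance
  have : (fun c : Fin r → Γ(X, V) => ∑ i, c i • M1.mres N hV (φ.hom.app U (e i))) =
      φ.hom.app V ∘ fun c => ∑ i, c i • M1.mres M hV (e i) := by
    funext c
    simp only [Function.comp_apply, app_sum_smul, app_mres]
  rw [this]
  exact hb.comp (he V hV)

theorem isBas_of_restrict (j : Y ⟶ X) [IsOpenImmersion j] (M : X.Modules) {D : Y.Opens}
    {e : Fin r → Γ(M.restrict j, D)} (he : IsBas (M.restrict j) D e) :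
    IsBas M (j ''ᵁ D) (fun i => (e i : Γ(M, j ''ᵁ D))) := by
  intro V hV
  obtain ⟨W, hW, rfl⟩ : ∃ W : Y.Opens, W ≤ D ∧ j ''ᵁ W = V := by
    refine ⟨j ⁻¹ᵁ V, fun z hz => ?_, ?_⟩
    · obtain ⟨z', hz', h⟩ := hV hz
      exact j.isOpenEmbedding.injective h ▸ hz'
    · rw [Scheme.Hom.image_preimage_eq_opensRange_inf, inf_eq_right]
      exact fun z hz => ⟨(hV hz).choose, (hV hz).choose_spec.2⟩
  have key : ∀ (c : Fin r → Γ(X, j ''ᵁ W)) i, (c i • M1.mres M hV (e i : Γ(M, j ''ᵁ D)) : Γ(M, j ''ᵁ W)) =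
      ((j.appIso W).hom (c i) : Γ(Y, W)) • M1.mres (M.restrict j) hW (e i) := fun c i => by
    show _ = ((j.appIso W).inv ((j.appIso W).hom (c i)) : Γ(X, j ''ᵁ W)) • M1.mres M (Scheme.Hom.image_mono _ hW) (e i)
    rw [Iso.hom_inv_id_apply]
  simp only [key]
  exact (he W hW).comp ((Equiv.piCongrRight fun _ => Equiv.ofBijective _
    ((ConcreteCategory.isIso_iff_bijective (j.appIso W).hom).1 inferInstance)).bijective)

/-- A morphism mapping bases to bases is an isomorphism. -/
theorem isIso_of_bases {M N : X.Modules} (φ : M ⟶ N) {ι : Type*} (U : ι → X.Opens) (hcov : ⨆ i, U i = ⊤)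
    (e : ∀ i, Fin r → Γ(M, U i)) (f : ∀ i, Fin r → Γ(N, U i)) (he : ∀ i, IsBas M (U i) (e i))
    (hf : ∀ i, IsBas N (U i) (f i)) (hφ : ∀ i j, φ.app (U i) (e i j) = f i j) : IsIso φ := by
  have hloc : ∀ (i : ι) (V : X.Opens), V ≤ U i → Function.Bijective (φ.app V) := fun i V hV => by
    refine ((he i V hV).of_comp_iff _).1 ?_
    rw [show ⇑(φ.app V) ∘ (fun c : Fin r → Γ(X, V) => ∑ l, c l • M1.mres M hV (e i l)) =
      fun c => ∑ l, c l • M1.mres N hV (f i l) from funext fun c => by
        simp only [Function.comp_apply, app_sum_smul, app_mres, hφ]]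
    exact hf i V hV
  refine Twist.isIso_of_bijective_app _ fun V => ?_
  have hcov' : V ≤ ⨆ i, V ⊓ U i := by rw [← inf_iSup_eq, hcov, inf_top_eq]
  have hinj : Function.Injective (φ.app V) := fun a b h =>
    modules_eq_of_locally_eq M V (fun i => V ⊓ U i) (fun i => inf_le_left) hcov' a b fun i => by
      refine (hloc i _ inf_le_right).1 ?_
      show φ.app _ (M1.mres M _ a) = φ.app _ (M1.mres M _ b)
      rw [app_mres, app_mres, h]
  refine ⟨hinj, fun n => ?_⟩
  choose m hm using fun i => (hloc i (V ⊓ U i) inf_le_right).2 (M1.mres N inf_le_left n)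
  obtain ⟨g, hg, -⟩ := TopCat.Sheaf.existsUnique_gluing' ⟨_, M.isSheaf⟩ (fun i => V ⊓ U i) V
    (fun i => homOfLE inf_le_left) hcov' m fun i j => by
      show M1.mres M (inf_le_left : (V ⊓ U i) ⊓ (V ⊓ U j) ≤ V ⊓ U i) (m i) =
        M1.mres M (inf_le_right : (V ⊓ U i) ⊓ (V ⊓ U j) ≤ V ⊓ U j) (m j)
      refine (hloc i _ (inf_le_left.trans inf_le_right)).1 ?_
      rw [app_mres, app_mres, hm, hm, mres_mres, mres_mres]
  refine ⟨g, modules_eq_of_locally_eq N V (fun i => V ⊓ U i) (fun i => inf_le_left) hcov' _ _ fun i => ?_⟩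
  show M1.mres N _ (φ.app V g) = M1.mres N _ n
  rw [← app_mres, show M1.mres M (inf_le_left : V ⊓ U i ≤ V) g = m i from hg i, hm]

section coprod

variable (F : Fin r → X.Modules)

open scoped Classical in
/-- The projections of a finite coproduct. -/
noncomputable def proj (i : Fin r) : (∐ F) ⟶ F i :=
  Sigma.desc fun j => if h : j = i then eqToHom (congrArg F h) else 0

theorem ι_proj_self (i : Fin r) : Sigma.ι F i ≫ proj F i = 𝟙 _ := by
  simp [proj]

theorem ι_proj_ne {i j : Fin r} (h : j ≠ i) : Sigma.ι F j ≫ proj F i = 0 := by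
  simp [proj, h]

theorem sum_proj_ι : (∑ i, proj F i ≫ Sigma.ι F i) = 𝟙 _ := by
  refine Sigma.hom_ext _ _ fun j => ?_
  rw [Preadditive.comp_sum, Finset.sum_eq_single j (fun i _ hi => by rw [← Category.assoc, ι_proj_ne F hi.symm, zero_comp])
    (fun h => absurd (Finset.mem_univ j) h), ← Category.assoc, ι_proj_self, Category.id_comp, Category.comp_id]

theorem app_sum {M N : X.Modules} {ι : Type*} (s : Finset ι) (φ : ι → (M ⟶ N)) (U : X.Opens) (m : Γ(M, U)) :
    (∑ i ∈ s, φ i).app U m = ∑ i ∈ s, (φ i).app U m := by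
  classical
  induction s using Finset.induction_on with
  | empty => simp
  | insert a s ha ih => rw [Finset.sum_insert ha, Finset.sum_insert ha, ← ih, Scheme.Modules.Hom.add_app]; rfl

/-- A coproduct of modules with generators has the evident basis. -/
theorem isBas_coprod {U : X.Opens} (g : ∀ i, Γ(F i, U)) (hg : ∀ i, Twist.IsGen (F i) U (g i)) :
    IsBas (∐ F) U (fun i => (Sigma.ι F i).app U (g i)) := fun V hV => by
  have key : ∀ (c : Fin r → Γ(X, V)) (l : Fin r),
      (proj F l).app V (∑ i, c i • M1.mres (∐ F) hV ((Sigma.ι F i).app U (g i))) = c l • M1.mres (F l) hV (g l) := by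
    intro c l
    rw [app_sum_smul, Finset.sum_eq_single l]
    · rw [← app_mres, ← CategoryTheory.comp_apply, ← Scheme.Modules.Hom.comp_app, ι_proj_self]
      rfl
    · intro i _ hi
      rw [← app_mres, ← CategoryTheory.comp_apply, ← Scheme.Modules.Hom.comp_app, ι_proj_ne F hi,
        Scheme.Modules.Hom.zero_app]
      exact smul_zero _
    · intro h
      exact absurd (Finset.mem_univ l) h
  refine ⟨fun c c' h => funext fun l => (hg l V hV).1 ?_, fun m => ?_⟩
  · exact ((key c l).symm.trans (congrArg _ h)).trans (key c' l)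
  · choose c hc using fun l => (hg l V hV).2 ((proj F l).app V m)
    refine ⟨c, ?_⟩
    have h1 := congrArg (fun φ : (∐ F) ⟶ (∐ F) => φ.app V m) (sum_proj_ι F)
    simp only [app_sum] at h1
    refine Eq.trans (Finset.sum_congr rfl fun i _ => ?_) h1
    show c i • M1.mres (∐ F) hV ((Sigma.ι F i).app U (g i)) = (Sigma.ι F i).app V ((proj F i).app V m)
    rw [← app_mres, ← Scheme.Modules.Hom.app_smul]
    exact congrArg _ (hc i)

end coprod

theorem isGen_one (U : X.Opens) : Twist.IsGen (Coh.structureModule X) U (one U) := fun V hV => by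
  have : (fun a : Γ(X, V) => a • M1.mres (Coh.structureModule X) hV (one U)) = fun a : Γ(X, V) => a := by
    funext a
    rw [mres_one]
    exact mul_one a
  rw [this]
  exact Function.bijective_id

/-- Locally free modules of rank `r` have bases locally. -/
theorem exists_isBas_nhd {M : X.Modules} (hM : FlatMod.IsFinLocFreeOfRank r M) (x : X) :
    ∃ (D : X.Opens) (e : Fin r → Γ(M, D)), x ∈ D ∧ IsBas M D e := by
  obtain ⟨U, hxU, ⟨φ⟩⟩ := hM x
  have hb := (isBas_coprod (fun _ : Fin r => Coh.structureModule (U : Scheme.{u})) (fun _ => one ⊤)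
    fun _ => isGen_one ⊤).map_iso φ.symm
  refine ⟨U.ι ''ᵁ ⊤, _, ?_, isBas_of_restrict U.ι M hb⟩
  exact ⟨⟨x, hxU⟩, trivial, rfl⟩

/-- On an integral scheme, locally free modules have bases over affine opens with principal coordinate ring. -/
theorem exists_isBas_of_pid [IsIntegral X] {M : X.Modules} (hM : FlatMod.IsFinLocFreeOfRank r M) {U : X.Opens}
    (hU : IsAffineOpen U) [Nonempty U] [IsPrincipalIdealRing Γ(X, U)] : ∃ e : Fin r → Γ(M, U), IsBas M U e := by
  classical
  have hF : FlatMod.IsFinLocFree M := fun x => by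
    obtain ⟨V, hx, hV⟩ := hM x
    exact ⟨V, r, hx, hV⟩
  have hFP := isFP_of_isFinLocFree hF
  haveI := isFP_isQCoh hFP
  haveI := finite_sections (isFP_isQCoh hFP) (isFP_isFT hFP) hU
  haveI : NoZeroSMulDivisors Γ(X, U) Γ(M, U) := ⟨fun {a m} h => by
    by_cases ha : a = 0
    · exact Or.inl ha
    refine Or.inr (TopCat.Presheaf.section_ext ⟨M.presheaf, M.isSheaf⟩ U m 0 fun x hx => ?_)
    refine Eq.trans ?_ (map_zero (M.presheaf.germ U x hx).hom).symm
    obtain ⟨D, e, hxD, he⟩ := exists_isBas_nhd hM x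
    obtain ⟨c, hc⟩ := (he.stalk hxD).2 (M.presheaf.germ U x hx m)
    have hne : X.presheaf.germ U x hx a ≠ 0 := fun h0 =>
      ha (germ_injective_of_isIntegral X x hx (h0.trans (map_zero (X.presheaf.germ U x hx).hom).symm))
    have h1 : (∑ i, (X.presheaf.germ U x hx a * c i) • (M.presheaf.germ D x hxD (e i) : M.presheaf.stalk x)) =
        ∑ i, (0 : X.presheaf.stalk x) • (M.presheaf.germ D x hxD (e i) : M.presheaf.stalk x) := by
      simp only [mul_smul, ← Finset.smul_sum, zero_smul, Finset.sum_const_zero]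
      rw [show (∑ i, c i • (M.presheaf.germ D x hxD (e i) : M.presheaf.stalk x)) = M.presheaf.germ U x hx m from hc,
        ← germ_smul, h, map_zero]
    have hc0 : ∀ i, c i = 0 := fun i => (mul_eq_zero.1 (congrFun ((he.stalk hxD).1 h1) i)).resolve_left hne
    exact hc.symm.trans (Finset.sum_eq_zero fun i _ => by rw [hc0 i, zero_smul])⟩
  obtain ⟨n, b⟩ := Module.basisOfFiniteTypeTorsionFree' (R := Γ(X, U)) (M := Γ(M, U))
  have hstalk : ∀ (x : X) (hx : x ∈ U), Function.Bijective fun c : Fin n → X.presheaf.stalk x =>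
      ∑ i, c i • (M.presheaf.germ U x hx (b i) : M.presheaf.stalk x) := by
    intro x hx
    letI := stalkModule M hx
    haveI := isLocalizedModule_germ M hU hx
    let := TopCat.Presheaf.algebra_section_stalk X.presheaf (⟨x, hx⟩ : U)
    haveI := hU.isLocalization_stalk ⟨x, hx⟩
    haveI : IsScalarTower Γ(X, U) (X.presheaf.stalk x) (M.presheaf.stalk x) :=
      IsScalarTower.of_algebraMap_smul fun _ _ => rfl
    let B := b.ofIsLocalizedModule (X.presheaf.stalk x) (hU.primeIdealOf ⟨x, hx⟩).asIdeal.primeCompl (germₗ M hx)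
    have : (fun c : Fin n → X.presheaf.stalk x => ∑ i, c i • (M.presheaf.germ U x hx (b i) : M.presheaf.stalk x)) =
        B.equivFun.symm := by
      funext c
      rw [Module.Basis.equivFun_symm_apply]
      refine Finset.sum_congr rfl fun i _ => ?_
      simp only [B, Module.Basis.ofIsLocalizedModule_apply]
      rfl
    rw [this]
    exact B.equivFun.symm.bijective
  obtain ⟨x, hx⟩ := ‹Nonempty U›
  obtain ⟨D, e, hxD, he⟩ := exists_isBas_nhd hM x
  let L₁ : (Fin n → X.presheaf.stalk x) →ₗ[X.presheaf.stalk x] M.presheaf.stalk x :=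
    Fintype.linearCombination (X.presheaf.stalk x) fun i => (M.presheaf.germ U x hx (b i) : M.presheaf.stalk x)
  let L₂ : (Fin r → X.presheaf.stalk x) →ₗ[X.presheaf.stalk x] M.presheaf.stalk x :=
    Fintype.linearCombination (X.presheaf.stalk x) fun i => (M.presheaf.germ D x hxD (e i) : M.presheaf.stalk x)
  have h1 : Function.Bijective L₁ := hstalk x hx
  have h2 : Function.Bijective L₂ := he.stalk hxD
  have hnr : n = r := by
    simpa using ((LinearEquiv.ofBijective L₁ h1).trans (LinearEquiv.ofBijective L₂ h2).symm).finrank_eq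
  subst hnr
  exact ⟨b, isBas_of_stalk hstalk⟩

end Groth.Agent.P1Split
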