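import Groth.Agent.Lib.P1Split17.Chart
import Groth.Agent.Lib.RegExt.P1

/-!
# Splitting of vector bundles on the projective line
-/

set_option autoImplicit false
set_option linter.style.haveILetI false
universe u

open CategoryTheory CategoryTheory.Limits AlgebraicGeometry TopologicalSpace Opposite Matrix
open scoped LaurentPolynomial

namespace Groth.Agent.P1Split

open Groth.Agent.M1

section general

variable {X : Scheme.{u}} {r : ℕ} {M : X.Modules} {U : X.Opens}

theorem sum_smul_sum {e : Fin r → Γ(M, U)} (c : Fin r → Γ(X, U)) (A : Matrix (Fin r) (Fin r) Γ(X, U)) :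
    ∑ i, c i • ∑ j, A i j • e j = ∑ j, (c ᵥ* A) j • e j := by
  simp only [Finset.smul_sum, ← mul_smul, Matrix.vecMul, dotProduct, Finset.sum_smul]
  exact Finset.sum_comm

theorem IsBas.change {e : Fin r → Γ(M, U)} (he : IsBas M U e) {A : Matrix (Fin r) (Fin r) Γ(X, U)}
    (hA : IsUnit A.det) : IsBas M U (fun i => ∑ j, A i j • e j) := fun V hV => by
  let A' : Matrix (Fin r) (Fin r) Γ(X, V) := A.map (ores hV).hom
  have hA' : IsUnit A'.det := (RingHom.map_det (ores hV).hom A) ▸ hA.map (ores hV).hom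
  have hb : Function.Bijective fun c : Fin r → Γ(X, V) => c ᵥ* A' :=
    Function.bijective_iff_has_inverse.2 ⟨fun c => c ᵥ* A'⁻¹,
      fun c => by simp [Matrix.vecMul_vecMul, Matrix.mul_nonsing_inv _ hA'],
      fun c => by simp [Matrix.vecMul_vecMul, Matrix.nonsing_inv_mul _ hA']⟩
  have key : (fun c : Fin r → Γ(X, V) => ∑ i, c i • M1.mres M hV (∑ j, A i j • e j)) =
      (fun c => ∑ j, c j • M1.mres M hV (e j)) ∘ fun c => c ᵥ* A' := funext fun c => by
    simp only [mres_sum_smul, Function.comp_apply]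
    exact sum_smul_sum c A'
  rw [key]
  exact (he V hV).comp hb

theorem IsBas.reindex {e : Fin r → Γ(M, U)} (he : IsBas M U e) (σ : Equiv.Perm (Fin r)) :
    IsBas M U (e ∘ σ) := fun V hV => by
  have key : (fun c : Fin r → Γ(X, V) => ∑ i, c i • M1.mres M hV ((e ∘ σ) i)) =
      (fun c => ∑ j, c j • M1.mres M hV (e j)) ∘ fun c => c ∘ σ.symm := funext fun c => by
    simp only [Function.comp_apply]
    rw [← Equiv.sum_comp σ fun j => c (σ.symm j) • M1.mres M hV (e j)]
    simp
  rw [key]
  exact (he V hV).comp (σ.arrowCongr (Equiv.refl _)).bijective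

/-- Coefficients are unique. -/
theorem IsBas.coeff_inj {e : Fin r → Γ(M, U)} (he : IsBas M U e) {A B : Matrix (Fin r) (Fin r) Γ(X, U)}
    (h : ∀ i, ∑ j, A i j • e j = ∑ j, B i j • e j) : A = B := by
  funext i
  refine (he U le_rfl).1 ?_
  simpa [mres_id] using h i

/-- Two bases differ by an invertible matrix. -/
theorem IsBas.exists_matrix {e e' : Fin r → Γ(M, U)} (he : IsBas M U e) (he' : IsBas M U e') :
    ∃ A : Matrix (Fin r) (Fin r) Γ(X, U), IsUnit A.det ∧ ∀ i, e' i = ∑ j, A i j • e j := by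
  choose a ha using fun i => (he U le_rfl).2 (e' i)
  choose b hb using fun i => (he' U le_rfl).2 (e i)
  simp only [mres_id] at ha hb
  have h : Matrix.of b * Matrix.of a = 1 := he.coeff_inj fun i => by
    rw [show (∑ j, (Matrix.of b * Matrix.of a) i j • e j) = ∑ j, (b i ᵥ* Matrix.of a) j • e j from rfl,
      ← sum_smul_sum]
    simp only [Matrix.of_apply, ha, hb, Matrix.one_apply, ite_smul, one_smul, zero_smul, Finset.sum_ite_eq,
      Finset.mem_univ, if_true]
  exact ⟨Matrix.of a, Matrix.isUnit_det_of_left_inverse h, fun i => (ha i).symm⟩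

end general

variable (k : Type u) [Field k]

/-- The twists with their bases. -/
noncomputable def splitMod {r : ℕ} (d : Fin r → ℤ) : (P1 k).Modules :=
  ∐ fun i : Fin r => _root_.Twist.twist (gr k) (d i)

/-- The basis of a sum of twists on a chart. -/
noncomputable def splitGen {r : ℕ} (d : Fin r → ℤ) (a : Fin 2) (i : Fin r) : Γ(splitMod k d, U k a) :=
  (Sigma.ι (fun i : Fin r => _root_.Twist.twist (gr k) (d i)) i).app (U k a) (twGen k (d i) a)

theorem isBas_splitGen {r : ℕ} (d : Fin r → ℤ) (a : Fin 2) : IsBas (splitMod k d) (U k a) (splitGen k d a) :=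
  isBas_coprod _ _ fun i => isGen_twGen k (d i) a

theorem splitGen_transition {r : ℕ} (d : Fin r → ℤ) (i : Fin r) :
    mres (splitMod k d) (U01_le k 1) (splitGen k d 1 i) =
      lauHom k (LaurentPolynomial.T (d i)) • mres (splitMod k d) (U01_le k 0) (splitGen k d 0 i) := by
  refine (app_mres (Sigma.ι (fun i : Fin r => _root_.Twist.twist (gr k) (d i)) i) (U01_le k 1) _).symm.trans ?_
  rw [twGen_transition, Scheme.Modules.Hom.app_smul]
  congr 1
  exact app_mres (Sigma.ι (fun i : Fin r => _root_.Twist.twist (gr k) (d i)) i) (U01_le k 0) _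

/-- A map out of `O(d)` from compatible sections. -/
theorem exists_hom_of_transition (M : (P1 k).Modules) (d : ℤ) (q : ∀ a, Γ(M, U k a))
    (hq : mres M (U01_le k 1) (q 1) = lauHom k (LaurentPolynomial.T d) • mres M (U01_le k 0) (q 0)) :
    ∃ φ : _root_.Twist.twist (gr k) d ⟶ M, ∀ a, φ.app (U k a) (twGen k d a) = q a := by
  let g : ∀ a, Γ(_root_.Twist.twist (gr k) d, U k a) := twGen k d
  have hg : ∀ a, Groth.Agent.Twist.IsGen (_root_.Twist.twist (gr k) d) (U k a) (g a) := isGen_twGen k d
  have hdiag : ∀ a (V : (P1 k).Opens) (hi hj : V ≤ U k a) (t : Γ(P1 k, V)),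
      mres _ hj (g a) = t • mres _ hi (g a) → mres M hj (q a) = t • mres M hi (q a) := fun a V hi hj t ht => by
    rw [show t = 1 from ((hg a V hi).1 ((one_smul _ _).trans ht)).symm, one_smul]
  have h01 : ∀ (V : (P1 k).Opens) (h0 : V ≤ U k 0) (h1 : V ≤ U k 1) (t : Γ(P1 k, V)),
      mres _ h1 (g 1) = t • mres _ h0 (g 0) → mres M h1 (q 1) = t • mres M h0 (q 0) := fun V h0 h1 t ht => by
    have hV : V ≤ U01 k := le_inf h0 h1
    have hg01 := congrArg (mres (_root_.Twist.twist (gr k) d) hV) (twGen_transition k d)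
    rw [mres_smul, mres_mres, mres_mres] at hg01
    have hq01 := congrArg (mres M hV) hq
    rw [mres_smul, mres_mres, mres_mres] at hq01
    rw [(hg 0 V h0).1 (ht.symm.trans hg01)]
    exact hq01
  have h10 : ∀ (V : (P1 k).Opens) (h0 : V ≤ U k 0) (h1 : V ≤ U k 1) (t : Γ(P1 k, V)),
      mres _ h0 (g 0) = t • mres _ h1 (g 1) → mres M h0 (q 0) = t • mres M h1 (q 1) := fun V h0 h1 t ht => by
    obtain ⟨s, hs⟩ := (hg 0 V h0).2 (mres _ h1 (g 1))
    have hts : t * s = 1 := (hg 0 V h0).1 (by
      show (t * s) • mres _ h0 (g 0) = (1 : Γ(P1 k, V)) • mres _ h0 (g 0)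
      rw [mul_smul, show s • mres _ h0 (g 0) = _ from hs, ← ht, one_smul])
    rw [h01 V h0 h1 s hs.symm, ← mul_smul, hts, one_smul]
  have hpq : Groth.Agent.Twist.SameTransition (U k) g q := fun i j V hi hj t ht => by
    fin_cases i <;> fin_cases j
    · exact hdiag 0 V hi hj t ht
    · exact h01 V hi hj t ht
    · exact h10 V hj hi t ht
    · exact hdiag 1 V hi hj t ht
  exact ⟨Groth.Agent.Twist.glueHom (U k) (iSup_U k) g q hg hpq,
    Groth.Agent.Twist.glueHom_app_gen (U k) (iSup_U k) g q hg hpq⟩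

theorem nonempty_U (a : Fin 2) : Nonempty (U k a) := by
  refine ⟨⟨⟨⊥, by rw [HomogeneousIdeal.toIdeal_bot]; exact Ideal.isPrime_bot, fun h => ?_⟩, fun h => ?_⟩⟩
  · have h' := h (HomogeneousIdeal.mem_irrelevant_of_mem _ Nat.one_pos (ProjSpace.X_mem' 1 k a))
    exact MvPolynomial.X_ne_zero a h'
  · exact MvPolynomial.X_ne_zero a h

theorem ores_coordHom (a : Fin 2) (p : Polynomial k) : ores (U01_le k a) (coordHom k a p) = resHom k a p := rfl

/-- Existence of the splitting. -/
theorem exists_splitting {r : ℕ} (E : (P1 k).Modules) (hE : FlatMod.IsFinLocFreeOfRank r E) :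
    ∃ d : Fin r → ℤ, Antitone d ∧ Nonempty (E ≅ splitMod k d) := by
  haveI : IsIntegral (P1 k) := Groth.Agent.RegExt.isIntegral_projSpace 1 k
  haveI := nonempty_U k
  choose e he using fun a => exists_isBas_of_pid hE (isAffineOpen_U k a)
  obtain ⟨M, hM, hMe⟩ := (IsBas.mres (he 1) (U01_le k 1)).exists_matrix (IsBas.mres (he 0) (U01_le k 0))
  let L := (RingEquiv.ofBijective (lauHom k) (lauHom_bijective k))
  let ML : Matrix (Fin r) (Fin r) k[T;T⁻¹] := M.map L.symm
  have hML : ML.map (lauHom k) = M := by ext i j; exact L.apply_symm_apply _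
  have hMLu : IsUnit ML.det := (RingHom.map_det L.symm.toRingHom M) ▸ hM.map L.symm.toRingHom
  obtain ⟨A, B, d, hA, hB, hAB⟩ := exists_factorization ML hMLu
  have heq : A.map (resHom k 0) * M = diagonal (fun i => lauHom k (LaurentPolynomial.T (d i))) * B.map (resHom k 1) := by
    have h := congrArg (fun m : Matrix (Fin r) (Fin r) k[T;T⁻¹] => m.map (lauHom k)) hAB
    simp only [Matrix.map_mul, Matrix.map_map, Matrix.diagonal_map (map_zero (lauHom k)), hML] at h
    rw [show (lauHom k) ∘ (posHom k) = resHom k 0 from funext (lauHom_posHom k),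
      show (lauHom k) ∘ (negHom k) = resHom k 1 from funext (lauHom_negHom k)] at h
    exact h
  let C : Fin 2 → Matrix (Fin r) (Fin r) (Polynomial k) := ![A, B]
  have hC : ∀ a, IsUnit (C a).det := fun a => by fin_cases a <;> assumption
  let q : ∀ a, Fin r → Γ(E, U k a) := fun a i => ∑ j, coordHom k a (C a i j) • e a j
  have hq : ∀ a, IsBas E (U k a) (q a) := fun a =>
    (he a).change (A := (C a).map (coordHom k a)) ((RingHom.map_det (coordHom k a) (C a)) ▸ (hC a).map (coordHom k a))
  have htr : ∀ i, mres E (U01_le k 0) (q 0 i) =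
      lauHom k (LaurentPolynomial.T (d i)) • mres E (U01_le k 1) (q 1 i) := by
    intro i
    simp only [q, mres_sum_smul, ores_coordHom, Finset.smul_sum, ← mul_smul]
    simp only [hMe]
    rw [sum_smul_sum (fun j => resHom k 0 (C 0 i j)) M]
    refine Finset.sum_congr rfl fun j _ => ?_
    have h := congrFun (congrFun heq i) j
    rw [Matrix.diagonal_mul, Matrix.map_apply] at h
    exact congrArg (· • _) h
  let σ := Tuple.sort d
  have htr' : ∀ i, mres E (U01_le k 1) (q 1 i) =
      lauHom k (LaurentPolynomial.T (-(d i))) • mres E (U01_le k 0) (q 0 i) := fun i => by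
    rw [htr, ← mul_smul, ← map_mul, ← LaurentPolynomial.T_add, neg_add_cancel, LaurentPolynomial.T_zero, map_one,
      one_smul]
  choose φ hφ using fun i => exists_hom_of_transition k E (-(d (σ i))) (fun a => q a (σ i)) (htr' (σ i))
  let d' : Fin r → ℤ := fun i => -(d (σ i))
  let Φ : splitMod k d' ⟶ E := Sigma.desc φ
  have : IsIso Φ := isIso_of_bases Φ (U k) (iSup_U k) (splitGen k d') (fun a => q a ∘ σ)
    (isBas_splitGen k d') (fun a => (hq a).reindex σ) fun a i => by
      show ((Sigma.ι (fun i : Fin r => _root_.Twist.twist (gr k) (d' i)) i) ≫ Φ).app (U k a) (twGen k (d' i) a) = _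
      simp only [Φ, Sigma.ι_desc]
      exact hφ i a
  exact ⟨d', fun i j hij => neg_le_neg (Tuple.monotone_sort d hij), ⟨(asIso Φ).symm⟩⟩

/-- Uniqueness of the splitting. -/
theorem eq_of_iso {r : ℕ} {d d' : Fin r → ℤ} (hd : Antitone d) (hd' : Antitone d')
    (φ : splitMod k d ≅ splitMod k d') : d = d' := by
  suffices key : ∀ (d d' : Fin r → ℤ) (φ : splitMod k d ≅ splitMod k d'),
      ∃ A B : Matrix (Fin r) (Fin r) (Polynomial k), IsUnit A.det ∧
        A.map (posHom k) * diagonal (fun i => LaurentPolynomial.T (d i)) =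
          diagonal (fun i => LaurentPolynomial.T (d' i)) * B.map (negHom k) by
    obtain ⟨A, B, hA, h⟩ := key d d' φ
    obtain ⟨A', B', hA', h'⟩ := key d' d φ.symm
    exact eq_of_mul_diagonal_eq hA hA' h h' hd hd'
  intro d d' φ
  choose P hP hPe using fun a => (isBas_splitGen k d' a).exists_matrix ((isBas_splitGen k d a).map_iso φ)
  let c := fun a => RingEquiv.ofBijective (coordHom k a) (coordHom_bijective k a)
  refine ⟨((P 0).map (c 0).symm).transpose, ((P 1).map (c 1).symm).transpose, ?_, ?_⟩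
  · rw [Matrix.det_transpose]
    exact (RingHom.map_det (c 0).symm.toRingHom (P 0)) ▸ (hP 0).map (c 0).symm.toRingHom
  · have hco : ∀ a i j, ores (U01_le k a) (P a i j) = resHom k a ((c a).symm (P a i j)) := fun a i j => by
      rw [← ores_coordHom]
      exact congrArg _ ((c a).apply_symm_apply _).symm
    have hb := IsBas.mres (isBas_splitGen k d' 0) (U01_le k 0)
    have h : (diagonal fun i => lauHom k (LaurentPolynomial.T (d i))) * ((P 0).map (c 0).symm).map (resHom k 0) =
        ((P 1).map (c 1).symm).map (resHom k 1) * diagonal (fun i => lauHom k (LaurentPolynomial.T (d' i))) := by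
      refine hb.coeff_inj fun i => ?_
      have h1 := congrArg (φ.hom.app (U01 k)) (splitGen_transition k d i)
      rw [app_mres, Scheme.Modules.Hom.app_smul, app_mres] at h1
      simp only [hPe, mres_sum_smul, splitGen_transition, hco, Finset.smul_sum, ← mul_smul] at h1
      simp only [Matrix.diagonal_mul, Matrix.mul_diagonal, Matrix.map_apply]
      exact h1.symm
    have hinj := (lauHom_bijective k).injective
    ext1 i j
    refine hinj ?_
    have h2 := congrFun (congrFun h j) i
    simp only [Matrix.diagonal_mul, Matrix.mul_diagonal, Matrix.map_apply, Matrix.transpose_apply,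
      map_mul, lauHom_posHom, lauHom_negHom] at h2 ⊢
    rw [mul_comm _ (lauHom k (LaurentPolynomial.T (d j))), h2, mul_comm]

end Groth.Agent.P1Split
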