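import Groth.Agent.Lib.P1Split17.Matrix
import Groth.Agent.Lib.P1Split17.Basis
import Groth.Agent.Lib.Twist.Basic
import Groth.Agent.Lib.ProjSpace.Basic

/-!
# The two charts of the projective line
-/

set_option autoImplicit false
set_option linter.style.haveILetI false
universe u

open CategoryTheory CategoryTheory.Limits AlgebraicGeometry TopologicalSpace Opposite
open scoped LaurentPolynomial

namespace Groth.Agent.P1Split

open Groth.Agent.M1

variable (k : Type u) [Field k]

/-- The grading of `k[X₀, X₁]`. -/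
noncomputable abbrev gr : ℕ → Submodule k (MvPolynomial (Fin 2) k) := CohB1.polyGrading 1 k

/-- The projective line. -/
noncomputable abbrev P1 : Scheme.{u} := Proj (gr k)

/-- The chart `D₊(Xᵢ)`. -/
noncomputable def U (i : Fin 2) : (P1 k).Opens := Proj.basicOpen (gr k) (MvPolynomial.X i)

theorem iSup_U : (⨆ i, U k i) = ⊤ := ProjSpace.iSup_basicOpen 1 k

/-- The other index. -/
def oth (i : Fin 2) : {j : Fin 2 // j ≠ i} := ⟨i + 1, by revert i; decide⟩

theorem eq_oth (i : Fin 2) (j : {j : Fin 2 // j ≠ i}) : j = oth i := by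
  obtain ⟨j, hj⟩ := j
  refine Subtype.ext ?_
  show j = i + 1
  revert hj
  revert i j
  decide

/-- `k[X] → k[X_j, j ≠ i]`. -/
noncomputable def polyToMv (i : Fin 2) : Polynomial k →+* MvPolynomial {j : Fin 2 // j ≠ i} k :=
  Polynomial.eval₂RingHom MvPolynomial.C (MvPolynomial.X (oth i))

theorem polyToMv_bijective (i : Fin 2) : Function.Bijective (polyToMv k i) := by
  let g : MvPolynomial {j : Fin 2 // j ≠ i} k →+* Polynomial k :=
    MvPolynomial.eval₂Hom Polynomial.C fun _ => Polynomial.X
  have h1 : g.comp (polyToMv k i) = RingHom.id _ :=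
    Polynomial.ringHom_ext (fun a => by simp [g, polyToMv]) (by simp [g, polyToMv])
  have h2 : (polyToMv k i).comp g = RingHom.id _ :=
    MvPolynomial.ringHom_ext (fun a => by simp [g, polyToMv]) (fun j => by simp [g, polyToMv, eq_oth i j])
  exact Function.bijective_iff_has_inverse.2 ⟨g, DFunLike.congr_fun h1, DFunLike.congr_fun h2⟩

/-- The coordinate ring of a chart. -/
noncomputable def coordHom (i : Fin 2) : Polynomial k →+* Γ(P1 k, U k i) :=
  (Proj.basicOpenIsoAway (gr k) (MvPolynomial.X i) (ProjSpace.X_mem' 1 k i) Nat.one_pos).hom.hom.comp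
    ((ProjSpace.toAway k i).comp (polyToMv k i))

theorem coordHom_bijective (i : Fin 2) : Function.Bijective (coordHom k i) :=
  ((ConcreteCategory.isIso_iff_bijective
    (Proj.basicOpenIsoAway (gr k) (MvPolynomial.X i) (ProjSpace.X_mem' 1 k i) Nat.one_pos).hom).1 inferInstance).comp
    ((ProjSpace.toAway_bijective k i).comp (polyToMv_bijective k i))

theorem isAffineOpen_U (i : Fin 2) : IsAffineOpen (U k i) :=
  Proj.isAffineOpen_basicOpen (gr k) (MvPolynomial.X i) (ProjSpace.X_mem' 1 k i) Nat.one_pos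

instance isPrincipalIdealRing_U (i : Fin 2) : IsPrincipalIdealRing Γ(P1 k, U k i) :=
  IsPrincipalIdealRing.of_surjective (coordHom k i) (coordHom_bijective k i).surjective

/-- The value of a function at a point, as a ring map. -/
noncomputable def valHom {W : (P1 k).Opens} (x : ProjectiveSpectrum (gr k)) (hx : x ∈ W) :
    Γ(P1 k, W) →+* Twist.Loc (gr k) x where
  toFun r := Groth.Agent.Twist.valO r x hx
  map_one' := HomogeneousLocalization.val_one
  map_mul' a b := HomogeneousLocalization.val_mul _ _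
  map_zero' := HomogeneousLocalization.val_zero
  map_add' a b := HomogeneousLocalization.val_add _ _

theorem valHom_ores {W W' : (P1 k).Opens} (h : W' ≤ W) (r : Γ(P1 k, W)) (x : ProjectiveSpectrum (gr k))
    (hx : x ∈ W') : valHom k x hx (ores h r) = valHom k x (h hx) r := rfl

theorem ext_valHom {W : (P1 k).Opens} {r r' : Γ(P1 k, W)} (h : ∀ x hx, valHom k x hx r = valHom k x hx r') :
    r = r' :=
  Groth.Agent.Twist.sectionO_ext h

/-- The image of `Xᵢ` at a point of `D₊(Xᵢ)`. -/
noncomputable def w (i : Fin 2) (x : ProjectiveSpectrum (gr k)) (hx : x ∈ U k i) : (Twist.Loc (gr k) x)ˣ :=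
  (IsLocalization.map_units (Twist.Loc (gr k) x)
    (⟨MvPolynomial.X i, hx⟩ : x.asHomogeneousIdeal.toIdeal.primeCompl)).unit

theorem coe_w (i : Fin 2) (x : ProjectiveSpectrum (gr k)) (hx : x ∈ U k i) :
    (w k i x hx : Twist.Loc (gr k) x) = algebraMap (MvPolynomial (Fin 2) k) (Twist.Loc (gr k) x) (MvPolynomial.X i) := rfl

theorem valHom_coordHom_eq (i : Fin 2) (p : Polynomial k) (x : ProjectiveSpectrum (gr k)) (hx : x ∈ U k i) :
    valHom k x hx (coordHom k i p) =
      IsLocalization.map (M := Submonoid.powers (MvPolynomial.X i : MvPolynomial (Fin 2) k))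
        (T := x.asHomogeneousIdeal.toIdeal.primeCompl) _ (RingHom.id _) (Submonoid.powers_le.mpr hx)
        (ProjSpace.toAway k i (polyToMv k i p)).val :=
  ProjectiveSpectrum.Proj.awayToSection_apply (gr k) (MvPolynomial.X i) _ ⟨x, hx⟩

theorem valHom_coordHom_X (i : Fin 2) (x : ProjectiveSpectrum (gr k)) (hx : x ∈ U k i) :
    valHom k x hx (coordHom k i Polynomial.X) * (w k i x hx : Twist.Loc (gr k) x) =
      algebraMap (MvPolynomial (Fin 2) k) (Twist.Loc (gr k) x) (MvPolynomial.X (oth i).1) := by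
  rw [valHom_coordHom_eq, show polyToMv k i Polynomial.X = MvPolynomial.X (oth i) by simp [polyToMv],
    ProjSpace.toAway_X, ProjSpace.val_coord, Localization.mk_eq_mk', IsLocalization.map_mk']
  exact IsLocalization.mk'_spec _ _ _

theorem valHom_coordHom_C (i : Fin 2) (a : k) (x : ProjectiveSpectrum (gr k)) (hx : x ∈ U k i) :
    valHom k x hx (coordHom k i (Polynomial.C a)) = algebraMap (MvPolynomial (Fin 2) k) (Twist.Loc (gr k) x) (MvPolynomial.C a) := by
  rw [valHom_coordHom_eq, show polyToMv k i (Polynomial.C a) = MvPolynomial.C a by simp [polyToMv],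
    ProjSpace.toAway_C, ProjSpace.val_const, IsLocalization.map_eq, RingHom.id_apply]

/-- The overlap. -/
noncomputable def U01 : (P1 k).Opens := U k 0 ⊓ U k 1

theorem U01_le (i : Fin 2) : U01 k ≤ U k i := by
  fin_cases i
  · exact inf_le_left
  · exact inf_le_right

/-- A chart ring, restricted to the overlap. -/
noncomputable def resHom (i : Fin 2) : Polynomial k →+* Γ(P1 k, U01 k) :=
  (ores (U01_le k i)).hom.comp (coordHom k i)

theorem valHom_resHom (i : Fin 2) (p : Polynomial k) (x : ProjectiveSpectrum (gr k)) (hx : x ∈ U01 k) :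
    valHom k x hx (resHom k i p) = valHom k x (U01_le k i hx) (coordHom k i p) := rfl

theorem resHom_C (i : Fin 2) (a : k) : resHom k i (Polynomial.C a) = resHom k 0 (Polynomial.C a) :=
  ext_valHom k fun x hx => by rw [valHom_resHom, valHom_resHom, valHom_coordHom_C, valHom_coordHom_C]

theorem valHom_resHom_X (i : Fin 2) (x : ProjectiveSpectrum (gr k)) (hx : x ∈ U01 k) :
    valHom k x hx (resHom k i Polynomial.X) =
      ((w k (oth i).1 x (U01_le k _ hx) * (w k i x (U01_le k i hx))⁻¹ : (Twist.Loc (gr k) x)ˣ) : Twist.Loc (gr k) x) := by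
  rw [valHom_resHom, Units.val_mul, Units.eq_mul_inv_iff_mul_eq, coe_w k (oth i).1]
  exact valHom_coordHom_X k i x _

theorem resHom_mul_X : resHom k 0 Polynomial.X * resHom k 1 Polynomial.X = 1 :=
  ext_valHom k fun x hx => by
    rw [map_mul, map_one, valHom_resHom_X, valHom_resHom_X, ← Units.val_mul]
    have h0 : (oth 0).1 = 1 := rfl
    have h1 : (oth 1).1 = 0 := rfl
    simp only [h0, h1]
    rw [mul_mul_mul_comm, mul_comm (w k 1 x _) (w k 0 x _), ← mul_inv, mul_inv_cancel, Units.val_one]

/-- `T`, as a unit on the overlap. -/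
noncomputable def tU : Γ(P1 k, U01 k)ˣ :=
  Units.mkOfMulEqOne _ _ (resHom_mul_X k)

/-- `k[T, T⁻¹] → Γ(U01)`. -/
noncomputable def lauHom : k[T;T⁻¹] →+* Γ(P1 k, U01 k) :=
  LaurentPolynomial.eval₂ ((resHom k 0).comp Polynomial.C) (tU k)

theorem lauHom_posHom (p : Polynomial k) : lauHom k (posHom k p) = resHom k 0 p := by
  have h : (lauHom k).comp (posHom k) = resHom k 0 :=
    Polynomial.ringHom_ext (fun a => by simp [lauHom, posHom]) (by simp [lauHom, posHom, tU])
  exact DFunLike.congr_fun h p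

theorem lauHom_negHom (p : Polynomial k) : lauHom k (negHom k p) = resHom k 1 p := by
  have h : (lauHom k).comp (negHom k) = resHom k 1 := by
    refine Polynomial.ringHom_ext (fun a => ?_) ?_
    · rw [RingHom.comp_apply, negHom_C, resHom_C k 1]
      simp [lauHom]
    · rw [RingHom.comp_apply, show negHom k Polynomial.X = LaurentPolynomial.T (-1) by simpa using negHom_X_pow (k := k) 1]
      simp [lauHom, LaurentPolynomial.eval₂_T, tU]
      rfl
  exact DFunLike.congr_fun h p

theorem basicOpen_coord : U01 k = (P1 k).basicOpen (coordHom k 0 Polynomial.X) := by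
  refine le_antisymm (fun x hx => ?_) fun x hx => ?_
  · rw [(P1 k).mem_basicOpen _ x (U01_le k 0 hx)]
    have h := ((tU k).isUnit).map ((P1 k).presheaf.germ (U01 k) x hx).hom
    rwa [show ((tU k : Γ(P1 k, U01 k))) = ores (U01_le k 0) (coordHom k 0 Polynomial.X) from rfl,
      (P1 k).presheaf.germ_res_apply] at h
  · have hx0 : x ∈ U k 0 := (P1 k).basicOpen_le _ hx
    refine ⟨hx0, fun hmem => ?_⟩
    have h := ((P1 k).mem_basicOpen _ x hx0).1 hx
    have h' := (h.map (Proj.stalkIso' (gr k) x).toRingHom).map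
      (algebraMap (Twist.A0 (gr k) x) (Twist.Loc (gr k) x))
    have h'' : IsUnit (valHom k x hx0 (coordHom k 0 Polynomial.X)) := by
      refine (congrArg IsUnit ?_).mp h'
      exact congrArg HomogeneousLocalization.val
        (Proj.stalkIso'_germ (gr k) (U k 0) x hx0 (coordHom k 0 Polynomial.X))
    have h3 : IsUnit (algebraMap (MvPolynomial (Fin 2) k) (Twist.Loc (gr k) x) (MvPolynomial.X (oth 0).1)) :=
      valHom_coordHom_X k 0 x hx0 ▸ h''.mul (Units.isUnit _)
    exact (IsLocalization.AtPrime.isUnit_to_map_iff (Twist.Loc (gr k) x) x.asHomogeneousIdeal.toIdeal _).1 h3 hmem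

theorem isLocalization_ores {X : Scheme.{u}} {V : X.Opens} (hV : IsAffineOpen V) (f : Γ(X, V)) {W : X.Opens}
    (hW : W = X.basicOpen f) (h : W ≤ V) :
    letI := (ores h).hom.toAlgebra
    IsLocalization.Away f Γ(X, W) := by
  subst hW
  exact hV.isLocalization_basicOpen f

theorem lauHom_bijective : Function.Bijective (lauHom k) := by
  letI : Algebra Γ(P1 k, U k 0) Γ(P1 k, U01 k) := (ores (U01_le k 0)).hom.toAlgebra
  haveI := isLocalization_ores (isAffineOpen_U k 0) (coordHom k 0 Polynomial.X) (basicOpen_coord k) (U01_le k 0)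
  let e : Γ(P1 k, U k 0) ≃+* Polynomial k := (RingEquiv.ofBijective (coordHom k 0) (coordHom_bijective k 0)).symm
  letI : Algebra (Polynomial k) Γ(P1 k, U01 k) := (resHom k 0).toAlgebra
  haveI : IsLocalization.Away (Polynomial.X : Polynomial k) Γ(P1 k, U01 k) := by
    have h := IsLocalization.isLocalization_of_base_ringEquiv (Submonoid.powers (coordHom k 0 Polynomial.X))
      Γ(P1 k, U01 k) e
    rw [Submonoid.map_powers] at h
    have he : e (coordHom k 0 Polynomial.X) = Polynomial.X :=
      (RingEquiv.ofBijective (coordHom k 0) (coordHom_bijective k 0)).symm_apply_apply _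
    erw [he] at h
    exact h
  let E := IsLocalization.algEquiv (Submonoid.powers (Polynomial.X : Polynomial k)) k[T;T⁻¹] Γ(P1 k, U01 k)
  have hE : lauHom k = E.toRingEquiv.toRingHom := IsLocalization.ringHom_ext (Submonoid.powers (Polynomial.X : Polynomial k))
    (RingHom.ext fun p => by
      rw [RingHom.comp_apply, RingHom.comp_apply, LaurentPolynomial.algebraMap_eq_toLaurent]
      refine (lauHom_posHom k p).trans ?_
      exact (E.commutes p).symm.trans (congrArg E (LaurentPolynomial.algebraMap_eq_toLaurent p)))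
  rw [hE]
  exact E.bijective

/-- The generator of `O(d)` on a chart. -/
noncomputable def twGen (d : ℤ) (i : Fin 2) : Γ(_root_.Twist.twist (gr k) d, U k i) :=
  Groth.Agent.Twist.frac (gr k) (U k i) (a := MvPolynomial.X i ^ d.toNat) (s := MvPolynomial.X i ^ (-d).toNat)
    (SetLike.pow_mem_graded _ (ProjSpace.X_mem' 1 k i)) (SetLike.pow_mem_graded _ (ProjSpace.X_mem' 1 k i))
    (by simp; omega) (fun x hx h => hx (x.isPrime.mem_of_pow_mem _ h))

theorem mk_pow_pow (i : Fin 2) (p q : ℕ) (x : ProjectiveSpectrum (gr k)) (hx : x ∈ U k i)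
    (hq : (MvPolynomial.X i : MvPolynomial (Fin 2) k) ^ q ∉ x.asHomogeneousIdeal) :
    Localization.mk ((MvPolynomial.X i : MvPolynomial (Fin 2) k) ^ p) (⟨_, hq⟩ : x.asHomogeneousIdeal.toIdeal.primeCompl) =
      ((w k i x hx ^ ((p : ℤ) - q) : (Twist.Loc (gr k) x)ˣ) : Twist.Loc (gr k) x) := by
  rw [Localization.mk_eq_mk', IsLocalization.mk'_eq_iff_eq_mul, map_pow, map_pow, ← coe_w k i x hx,
    ← Units.val_pow_eq_pow_val, ← Units.val_pow_eq_pow_val, ← Units.val_mul, Units.val_inj, ← zpow_natCast,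
    ← zpow_natCast _ q, ← zpow_add, sub_add_cancel]

theorem val_twGen (d : ℤ) (i : Fin 2) (x : ProjectiveSpectrum (gr k)) (hx : x ∈ U k i) :
    Groth.Agent.Twist.val (n := d) (twGen k d i) x hx = ((w k i x hx ^ d : (Twist.Loc (gr k) x)ˣ) : Twist.Loc (gr k) x) := by
  refine (mk_pow_pow k i d.toNat (-d).toNat x hx _).trans ?_
  rw [show (d.toNat : ℤ) - (-d).toNat = d by omega]

theorem isGen_twGen (d : ℤ) (i : Fin 2) : Groth.Agent.Twist.IsGen (_root_.Twist.twist (gr k) d) (U k i) (twGen k d i) :=
  Groth.Agent.Twist.bijective_smul_of_inverse _ (twGen k (-d) i) fun x hx => by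
    rw [val_twGen, val_twGen, zpow_neg, ← Units.val_mul, mul_inv_cancel, Units.val_one]

theorem valHom_lauHom_T (d : ℤ) (x : ProjectiveSpectrum (gr k)) (hx : x ∈ U01 k) :
    valHom k x hx (lauHom k (LaurentPolynomial.T d)) =
      (((w k 1 x (U01_le k 1 hx) * (w k 0 x (U01_le k 0 hx))⁻¹) ^ d : (Twist.Loc (gr k) x)ˣ) : Twist.Loc (gr k) x) := by
  have h : Units.map (valHom k x hx).toMonoidHom (tU k) = w k 1 x (U01_le k 1 hx) * (w k 0 x (U01_le k 0 hx))⁻¹ :=
    Units.ext (valHom_resHom_X k 0 x hx)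
  rw [lauHom, LaurentPolynomial.eval₂_T, ← h, ← map_zpow]
  rfl

/-- The transition function of `O(d)`. -/
theorem twGen_transition (d : ℤ) :
    mres (_root_.Twist.twist (gr k) d) (U01_le k 1) (twGen k d 1) =
      lauHom k (LaurentPolynomial.T d) • mres (_root_.Twist.twist (gr k) d) (U01_le k 0) (twGen k d 0) :=
  Groth.Agent.Twist.sec_ext fun x hx => by
    rw [Groth.Agent.Twist.val_smul, Groth.Agent.Twist.val_mres, Groth.Agent.Twist.val_mres, val_twGen, val_twGen]
    show _ = valHom k x hx _ * _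
    rw [valHom_lauHom_T, ← Units.val_mul, mul_zpow, mul_assoc, inv_zpow, inv_mul_cancel, mul_one]

end Groth.Agent.P1Split
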