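import Mathlib.Algebra.Polynomial.Laurent
import Mathlib.LinearAlgebra.Matrix.NonsingularInverse
import Mathlib.LinearAlgebra.Matrix.ToLinearEquiv
import Mathlib.RingTheory.Polynomial.Content
import Mathlib.Data.Fin.Tuple.Sort
import Mathlib.Tactic

/-!
# Factorisation of invertible matrices over Laurent polynomials
-/

set_option autoImplicit false
set_option linter.style.haveILetI false
universe u

open Polynomial Matrix
open scoped LaurentPolynomial

namespace Groth.Agent.P1Split

variable (k : Type u) [Field k]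

/-- `p ↦ p(T)`. -/
noncomputable def posHom : k[X] →+* k[T;T⁻¹] := Polynomial.toLaurent

/-- `p ↦ p(T⁻¹)`. -/
noncomputable def negHom : k[X] →+* k[T;T⁻¹] :=
  (LaurentPolynomial.invert (R := k)).toRingEquiv.toRingHom.comp Polynomial.toLaurent

variable {k}

theorem negHom_apply (p : k[X]) : negHom k p = LaurentPolynomial.invert (toLaurent p) := rfl

theorem negHom_injective : Function.Injective (negHom k) :=
  (LaurentPolynomial.invert (R := k)).injective.comp Polynomial.toLaurent_injective

theorem negHom_X_pow (n : ℕ) : negHom k (X ^ n) = LaurentPolynomial.T (-(n : ℤ)) := by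
  rw [negHom_apply, toLaurent_X_pow, LaurentPolynomial.invert_T]

theorem negHom_C (a : k) : negHom k (Polynomial.C a) = LaurentPolynomial.C a := by
  rw [negHom_apply, toLaurent_C, LaurentPolynomial.invert_C]

theorem posHom_C (a : k) : posHom k (Polynomial.C a) = LaurentPolynomial.C a := toLaurent_C a

/-- A polynomial that becomes a unit is a unit or vanishes at zero. -/
theorem isUnit_or_X_dvd {p : k[X]} (h : IsUnit (negHom k p)) : IsUnit p ∨ X ∣ p := by
  have h' : IsUnit (toLaurent p) := by
    simpa [negHom_apply] using h.map (LaurentPolynomial.invert (R := k))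
  obtain ⟨g, hg⟩ := h'.exists_right_inv
  obtain ⟨n, g', hg'⟩ := LaurentPolynomial.exists_T_pow g
  have hd : p * g' = X ^ n := toLaurent_injective (by
    rw [map_mul, hg', ← mul_assoc, hg, one_mul, toLaurent_X_pow])
  obtain ⟨i, -, hi⟩ := (dvd_prime_pow Polynomial.prime_X n).1 ⟨g', hd.symm⟩
  rcases i with _ | i
  · exact Or.inl ((pow_zero (X : k[X]) ▸ hi).symm.isUnit isUnit_one)
  · exact Or.inr ((dvd_pow_self _ (Nat.succ_ne_zero i)).trans hi.symm.dvd)

theorem exists_negHom_eq (f : k[T;T⁻¹]) :
    ∃ n : ℕ, ∀ m : ℕ, n ≤ m → ∃ p : k[X], negHom k p = f * LaurentPolynomial.T (-(m : ℤ)) := by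
  obtain ⟨n, p, hp⟩ := LaurentPolynomial.exists_T_pow (LaurentPolynomial.invert f)
  refine ⟨n, fun m hm => ⟨p * X ^ (m - n), ?_⟩⟩
  rw [map_mul, negHom_X_pow, negHom_apply, hp, map_mul, LaurentPolynomial.invert_T,
    LaurentPolynomial.involutive_invert f, LaurentPolynomial.mul_T_assoc]
  congr 2
  omega

variable {r : ℕ}

/-- Invertible matrices over Laurent polynomials factor through a diagonal of monomials. -/
theorem exists_factorization (M : Matrix (Fin r) (Fin r) k[T;T⁻¹]) (hM : IsUnit M.det) :
    ∃ (A B : Matrix (Fin r) (Fin r) k[X]) (d : Fin r → ℤ), IsUnit A.det ∧ IsUnit B.det ∧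
      A.map (posHom k) * M = diagonal (fun i => LaurentPolynomial.T (d i)) * B.map (negHom k) := by
  classical
  suffices key : ∀ (n : ℕ) (A B : Matrix (Fin r) (Fin r) k[X]) (d : Fin r → ℤ), IsUnit A.det →
      B.det.natDegree ≤ n →
      A.map (posHom k) * M = diagonal (fun i => LaurentPolynomial.T (d i)) * B.map (negHom k) →
      ∃ (A B : Matrix (Fin r) (Fin r) k[X]) (d : Fin r → ℤ), IsUnit A.det ∧ IsUnit B.det ∧
        A.map (posHom k) * M = diagonal (fun i => LaurentPolynomial.T (d i)) * B.map (negHom k) by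
    choose n hn using fun ij : Fin r × Fin r => exists_negHom_eq (M ij.1 ij.2)
    let D : ℕ := Finset.univ.sup n
    choose p hp using fun ij : Fin r × Fin r => hn ij D (Finset.le_sup (Finset.mem_univ ij))
    refine key _ 1 (Matrix.of fun i j => p (i, j)) (fun _ => (D : ℤ)) (by simp) le_rfl ?_
    ext1 i j
    rw [Matrix.map_one _ (map_zero _) (map_one _), one_mul, Matrix.diagonal_mul, Matrix.map_apply,
      Matrix.of_apply, hp (i, j), LaurentPolynomial.T_mul, LaurentPolynomial.mul_T_assoc, neg_add_cancel,
      LaurentPolynomial.T_zero, mul_one]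
  intro n
  induction n using Nat.strong_induction_on with
  | _ n ih =>
    intro A B d hA hdeg hAB
    have hB : IsUnit (negHom k B.det) := by
      have h := congrArg Matrix.det hAB
      rw [Matrix.det_mul, Matrix.det_mul, Matrix.det_diagonal] at h
      have h1 : IsUnit ((A.map (posHom k)).det * M.det) :=
        (((RingHom.map_det (posHom k) A).symm ▸ hA.map (posHom k)) : IsUnit (A.map (posHom k)).det).mul hM
      rw [h] at h1
      rw [RingHom.map_det (negHom k) B]
      exact isUnit_of_mul_isUnit_right h1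
    rcases isUnit_or_X_dvd hB with hu | hX
    · exact ⟨A, B, d, hA, hu, hAB⟩
    have h0 : (B.map Polynomial.constantCoeff).det = 0 := by
      have : Polynomial.constantCoeff B.det = (B.map Polynomial.constantCoeff).det := RingHom.map_det _ B
      rw [← this, Polynomial.constantCoeff_apply, ← X_dvd_iff]
      exact hX
    obtain ⟨c, hc0, hc⟩ := Matrix.exists_vecMul_eq_zero_iff.2 h0
    have hne : (Finset.univ.filter fun j => c j ≠ 0).Nonempty := by
      by_contra h
      exact hc0 (funext fun j => by_contra fun hj => h ⟨j, Finset.mem_filter.2 ⟨Finset.mem_univ j, hj⟩⟩)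
    obtain ⟨i₀, hi₀, hmax⟩ := Finset.exists_max_image _ d hne
    have hci : c i₀ ≠ 0 := (Finset.mem_filter.1 hi₀).2
    have hle : ∀ j, c j ≠ 0 → d j ≤ d i₀ := fun j hj => hmax j (Finset.mem_filter.2 ⟨Finset.mem_univ j, hj⟩)
    have hdvd : ∀ l, X ∣ ∑ j, Polynomial.C (c j) * B j l := fun l => by
      rw [X_dvd_iff, Polynomial.finsetSum_coeff]
      simp only [Polynomial.coeff_C_mul]
      exact congrFun hc l
    choose b hb using hdvd
    let A' := A.updateRow i₀ fun l => ∑ j, (Polynomial.C (c j) * X ^ (d i₀ - d j).toNat) * A j l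
    let B' := B.updateRow i₀ b
    have hA' : IsUnit A'.det := by
      have h := Matrix.det_updateRow_sum A i₀ fun j => Polynomial.C (c j) * X ^ (d i₀ - d j).toNat
      have h' : A' = A.updateRow i₀ (∑ j, (Polynomial.C (c j) * X ^ (d i₀ - d j).toNat) • A j) := by
        refine congrArg (A.updateRow i₀) (funext fun l => ?_)
        rw [Finset.sum_apply]
        rfl
      rw [h', h, sub_self, Int.toNat_zero, pow_zero, mul_one, smul_eq_mul]
      exact (Polynomial.isUnit_C.2 (isUnit_iff_ne_zero.2 hci)).mul hA
    have hB' : Polynomial.C (c i₀) * B.det = X * B'.det := by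
      have h := Matrix.det_updateRow_sum B i₀ fun j => Polynomial.C (c j)
      rw [smul_eq_mul] at h
      rw [← h, ← Matrix.det_updateRow_smul]
      congr 2
      ext1 l
      simp [Finset.sum_apply, hb l]
    have hB0 : B.det ≠ 0 := fun h => by
      rw [h, map_zero] at hB
      exact not_isUnit_zero hB
    have hB'0 : B'.det ≠ 0 := fun h => by
      rw [h, mul_zero] at hB'
      exact mul_ne_zero (by simpa using hci) hB0 hB'
    have hdeg' : B'.det.natDegree < n := by
      have h := congrArg Polynomial.natDegree hB'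
      rw [Polynomial.natDegree_C_mul hci, Polynomial.natDegree_X_mul hB'0] at h
      omega
    refine ih _ hdeg' A' B' (Function.update d i₀ (d i₀ - 1)) hA' le_rfl ?_
    ext1 i l
    have hrow : ∀ j, (A.map (posHom k) * M) j l = LaurentPolynomial.T (d j) * negHom k (B j l) := fun j => by
      rw [hAB, Matrix.diagonal_mul, Matrix.map_apply]
    rw [Matrix.diagonal_mul, Matrix.map_apply]
    by_cases hi : i = i₀
    · subst hi
      simp only [A', B', Matrix.mul_apply, Matrix.map_apply, Matrix.updateRow_self, Function.update_self]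
      simp only [map_sum, map_mul, Finset.sum_mul]
      rw [Finset.sum_comm]
      simp only [mul_assoc, ← Finset.mul_sum]
      have hstep : ∀ j, posHom k (Polynomial.C (c j)) * (posHom k (X ^ (d i - d j).toNat) *
          ∑ m, posHom k (A j m) * M m l) = LaurentPolynomial.T (d i) * negHom k (Polynomial.C (c j) * B j l) := by
        intro j
        have hs : (∑ m, posHom k (A j m) * M m l) = LaurentPolynomial.T (d j) * negHom k (B j l) := by
          rw [← hrow j]; rfl
        rw [hs, posHom_C, map_mul, negHom_C]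
        by_cases hj : c j = 0
        · simp [hj]
        · have he : posHom k (X ^ (d i - d j).toNat) * LaurentPolynomial.T (d j) = LaurentPolynomial.T (d i) := by
            rw [posHom, toLaurent_X_pow, ← LaurentPolynomial.T_add]
            congr 1
            have := hle j hj
            omega
          rw [← he]
          ring
      rw [Finset.sum_congr rfl fun j _ => hstep j, ← Finset.mul_sum, ← map_sum, hb l, map_mul,
        show negHom k X = LaurentPolynomial.T (-1) by simpa using negHom_X_pow (k := k) 1, ← mul_assoc,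
        ← LaurentPolynomial.T_add, sub_eq_add_neg]
    · rw [show B' i l = B i l from congrFun (Matrix.updateRow_ne hi) l, Function.update_of_ne hi, ← hrow i]
      simp only [A', Matrix.mul_apply, Matrix.map_apply, Matrix.updateRow_ne hi]

theorem coeff_posHom (p : k[X]) (n : ℕ) : (posHom k p).coeff (n : ℤ) = p.coeff n := by
  show (toLaurent p).coeff (n : ℤ) = _
  rw [LaurentPolynomial.coeff_toLaurent]
  exact Finsupp.mapDomain_apply Int.ofNat_injective _ n

theorem coeff_posHom_neg (p : k[X]) (n : ℕ) : (posHom k p).coeff (-((n : ℤ) + 1)) = 0 := by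
  show (toLaurent p).coeff _ = 0
  rw [LaurentPolynomial.coeff_toLaurent]
  refine Finsupp.mapDomain_of_notMem_range _ _ ?_
  rintro ⟨m, hm⟩
  simp at hm
  omega

/-- `p(T) = q(T⁻¹)` forces constants. -/
theorem eq_C_of_posHom_eq_negHom {p q : k[X]} (h : posHom k p = negHom k q) : p = Polynomial.C (p.coeff 0) := by
  refine Polynomial.ext fun n => ?_
  rcases n with _ | n
  · simp
  · rw [Polynomial.coeff_C_succ, ← coeff_posHom, h, negHom_apply, LaurentPolynomial.invert_apply]
    rw [Nat.cast_succ]
    exact coeff_posHom_neg q n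

theorem exists_perm_of_det_ne_zero {A : Matrix (Fin r) (Fin r) k[X]} (h : A.det ≠ 0) :
    ∃ σ : Equiv.Perm (Fin r), ∀ j, A (σ j) j ≠ 0 := by
  by_contra! hc
  refine h ?_
  rw [Matrix.det_apply]
  refine Finset.sum_eq_zero fun σ _ => ?_
  obtain ⟨j, hj⟩ := hc σ
  exact (congrArg (Equiv.Perm.sign σ • ·) (Finset.prod_eq_zero (f := fun i => A (σ i) i) (Finset.mem_univ j) hj)).trans (smul_zero _)

/-- Degrees decrease along a morphism of split modules. -/
theorem le_of_mul_diagonal_eq {A B : Matrix (Fin r) (Fin r) k[X]} {d d' : Fin r → ℤ}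
    (h : A.map (posHom k) * diagonal (fun i => LaurentPolynomial.T (d i)) =
      diagonal (fun i => LaurentPolynomial.T (d' i)) * B.map (negHom k)) {i j : Fin r} (hij : A i j ≠ 0) :
    d j ≤ d' i := by
  by_contra hlt
  rw [not_le] at hlt
  have h1 := congrFun (congrFun h i) j
  rw [Matrix.mul_diagonal, Matrix.diagonal_mul, Matrix.map_apply, Matrix.map_apply] at h1
  obtain ⟨e, he⟩ : ∃ e : ℕ, d j = d' i + ((e : ℤ) + 1) := ⟨(d j - d' i - 1).toNat, by omega⟩
  have h2 : posHom k (A i j * X ^ (e + 1)) = negHom k (B i j) := by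
    refine (LaurentPolynomial.isUnit_T (R := k) (d' i)).mul_left_cancel ?_
    rw [← h1, map_mul, posHom, toLaurent_X_pow, he, LaurentPolynomial.T_add]
    push_cast
    ring
  have h3 := eq_C_of_posHom_eq_negHom h2
  rw [Polynomial.coeff_mul_X_pow', if_neg (by omega), map_zero] at h3
  exact hij ((mul_eq_zero.1 h3).resolve_right (pow_ne_zero _ X_ne_zero))

theorem eq_of_mul_diagonal_eq {A B A' B' : Matrix (Fin r) (Fin r) k[X]} {d d' : Fin r → ℤ}
    (hA : IsUnit A.det) (hA' : IsUnit A'.det)
    (h : A.map (posHom k) * diagonal (fun i => LaurentPolynomial.T (d i)) =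
      diagonal (fun i => LaurentPolynomial.T (d' i)) * B.map (negHom k))
    (h' : A'.map (posHom k) * diagonal (fun i => LaurentPolynomial.T (d' i)) =
      diagonal (fun i => LaurentPolynomial.T (d i)) * B'.map (negHom k))
    (hd : Antitone d) (hd' : Antitone d') : d = d' := by
  obtain ⟨σ, hσ⟩ := exists_perm_of_det_ne_zero hA.ne_zero
  obtain ⟨τ, hτ⟩ := exists_perm_of_det_ne_zero hA'.ne_zero
  have h1 : ∀ j, d j ≤ d' (σ j) := fun j => le_of_mul_diagonal_eq h (hσ j)
  have h2 : ∀ j, d' j ≤ d (τ j) := fun j => le_of_mul_diagonal_eq h' (hτ j)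
  have hsum : ∑ j, d j = ∑ j, d' (σ j) := le_antisymm (Finset.sum_le_sum fun j _ => h1 j) (by
    rw [Equiv.sum_comp σ d']
    calc ∑ j, d' j ≤ ∑ j, d (τ j) := Finset.sum_le_sum fun j _ => h2 j
      _ = ∑ j, d j := Equiv.sum_comp τ d)
  have heq : d = d' ∘ σ :=
    funext fun j => (Finset.sum_eq_sum_iff_of_le fun j _ => h1 j).1 hsum j (Finset.mem_univ j)
  have hu := Tuple.unique_antitone (f := d') (σ := σ) (τ := 1) (by rw [← heq]; exact hd) (by simpa using hd')
  rw [heq, hu]
  rfl

end Groth.Agent.P1Split
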